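import Cfsg.Agent.Lib.DivRingFG.SqSums
import Mathlib.Algebra.Field.Subfield.Basic
import Mathlib.Tactic.NoncommRing

/-!
Zero divisors in division rings containing a binary dihedral group of order 20 together with a
central root of unity of prime order, or an extension of it acting faithfully on the `5`-part.
-/

set_option autoImplicit false
set_option linter.style.haveILetI false

namespace Cfsg.Agent.DivRingFG

variable {D : Type*} [DivisionRing D]

theorem subfield_closure_comm {X : Set D} (hX : ∀ a ∈ X, ∀ b ∈ X, a * b = b * a) :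
    ∀ a ∈ Subfield.closure X, ∀ b ∈ Subfield.closure X, a * b = b * a := by
  have key : ∀ b : D, (∀ a ∈ X, Commute a b) → ∀ a ∈ Subfield.closure X, Commute a b := by
    intro b hb a ha
    induction ha using Subfield.closure_induction with
    | mem x hx => exact hb x hx
    | one => exact Commute.one_left b
    | add x y _ _ h1 h2 => exact h1.add_left h2
    | neg x _ h1 => exact h1.neg_left
    | inv x _ h1 => exact h1.inv_left₀
    | mul x y _ _ h1 h2 => exact h1.mul_left h2
  intro a ha b hb
  exact key b (fun x hx => (key x (fun a ha => hX a ha x hx) b hb).symm) a ha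

/-- A commutative field inside `D` generated by pairwise commuting elements. -/
theorem exists_field {X : Set D} (hX : ∀ a ∈ X, ∀ b ∈ X, a * b = b * a) :
    ∃ K : Subfield D, X ⊆ K ∧ (∀ a ∈ K, ∀ b ∈ K, a * b = b * a) ∧
      ∀ b : D, (∀ a ∈ X, Commute a b) → ∀ a ∈ K, Commute a b := by
  refine ⟨Subfield.closure X, Subfield.subset_closure, subfield_closure_comm hX, ?_⟩
  intro b hb a ha
  induction ha using Subfield.closure_induction with
  | mem x hx => exact hb x hx
  | one => exact Commute.one_left b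
  | add x y _ _ h1 h2 => exact h1.add_left h2
  | neg x _ h1 => exact h1.neg_left
  | inv x _ h1 => exact h1.inv_left₀
  | mul x y _ _ h1 h2 => exact h1.mul_left h2

theorem mul_pairs {a b x y : D} (h : Commute x b) : a * x * (b * y) = a * b * (x * y) := by
  rw [mul_assoc, ← mul_assoc x b y, h.eq, mul_assoc b x y, ← mul_assoc]

/-- A quaternion pair cannot commute with `√5` and a root of unity of prime order at least 7. -/
theorem quat_absurd [CharZero D] {s η y v : D} (hsη : Commute s η) (hsy : Commute s y)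
    (hsv : Commute s v) (hηy : Commute η y) (hηv : Commute η v) (hy : y * y = -1)
    (hv : v * v = -1) (hvy : v * y = -(y * v)) (hs : s * s = 5) {p : ℕ} (hp : p.Prime)
    (hp7 : 7 ≤ p) (hη : η ^ p = 1) (hη1 : η ≠ 1) : False := by
  have hX : ∀ a ∈ ({s, η} : Set D), ∀ b ∈ ({s, η} : Set D), a * b = b * a := by
    rintro a (rfl | rfl) b (rfl | rfl)
    · rfl
    · exact hsη.eq
    · exact hsη.eq.symm
    · rfl
  obtain ⟨K, hXK, hK, hcent⟩ := exists_field hX
  letI : Field K :=
    { (inferInstance : DivisionRing K) with mul_comm := fun a b => Subtype.ext (hK a a.2 b b.2) }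
  haveI : CharZero K :=
    ⟨fun m n h => Nat.cast_injective (R := D) (by simpa using congrArg (fun z : K => (z : D)) h)⟩
  obtain ⟨a, b, c, habc⟩ := three_squares (K := K) (s := ⟨s, hXK (by simp)⟩)
    (η := ⟨η, hXK (by simp)⟩) (Subtype.ext (by simpa [OfNat.ofNat] using hs)) hp hp7
    (Subtype.ext (by simpa using hη)) (fun h => hη1 (congrArg (fun z : K => (z : D)) h))
  have e : (a : D) * a + b * b + c * c = -1 := by
    have := congrArg (fun z : K => (z : D)) habc
    simpa [pow_two] using this
  have cy : ∀ x : K, Commute y (x : D) := fun x =>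
    (hcent y (by rintro z (rfl | rfl); exacts [hsy, hηy]) x x.2).symm
  have cv : ∀ x : K, Commute v (x : D) := fun x =>
    (hcent v (by rintro z (rfl | rfl); exacts [hsv, hηv]) x x.2).symm
  have ck : ∀ x : K, Commute (y * v) (x : D) := fun x => (cy x).mul_left (cv x)
  have cc : ∀ x x' : K, (x : D) * x' = x' * x := fun x x' => hK x x.2 x' x'.2
  have t1 : y * (y * v) = -v := by rw [← mul_assoc, hy, neg_one_mul]
  have t2 : y * v * v = -y := by rw [mul_assoc, hv, mul_neg_one]
  have t3 : y * v * y = v := by rw [mul_assoc, hvy, mul_neg, t1, neg_neg]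
  have t4 : v * (y * v) = y := by rw [← mul_assoc, hvy, neg_mul, t2, neg_neg]
  have t5 : y * v * (y * v) = -1 := by rw [mul_assoc, t4, hy]
  set U := (a : D) * y + b * v + c * (y * v) with hU
  have hUU : U * U = 1 := by
    have h : U * U = -((a : D) * a + b * b + c * c) := by
      simp only [hU, mul_add, add_mul, mul_pairs (cy a), mul_pairs (cy b), mul_pairs (cy c),
        mul_pairs (cv a), mul_pairs (cv b), mul_pairs (cv c), mul_pairs (ck a),
        mul_pairs (ck b), mul_pairs (ck c), hy, hv, hvy, t1, t2, t3, t4, t5]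
      rw [cc b a, cc c a, cc c b]
      noncomm_ring
    rw [h, e, neg_neg]
  have h2 : ∀ x : D, x = -x → x = 0 := fun x hx => by
    have : (2 : D) * x = 0 := by rw [two_mul]; exact add_eq_zero_iff_eq_neg.2 hx
    exact (mul_eq_zero.1 this).resolve_left two_ne_zero
  have hUc : ∀ x : D, Commute U x := fun x => by
    rcases mul_self_eq_one_iff.1 hUU with h | h <;> rw [h]
    · exact Commute.one_left x
    · exact (Commute.one_left x).neg_left
  set W := (b : D) * v + c * (y * v) with hW
  have hWy : W * y = -(y * W) := by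
    rw [hW, mul_add, add_mul, ← mul_assoc y (b : D), (cy b).eq, ← mul_assoc y (c : D), (cy c).eq,
      mul_assoc (b : D) v y, mul_assoc (c : D) (y * v) y, mul_assoc (b : D) y v,
      mul_assoc (c : D) y (y * v), hvy, t3, t1]
    noncomm_ring
  have hUW : U = (a : D) * y + W := by rw [hU, hW, add_assoc]
  have hW0 : W = 0 := by
    have h3 : W * y = y * W := by
      have := (hUc y).eq
      rw [hUW, add_mul, mul_add, mul_assoc, ← mul_assoc y (a : D), (cy a).eq, mul_assoc] at this
      exact add_left_cancel this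
    have h4 : y * W = 0 := h2 _ (by rw [← hWy, h3])
    refine (mul_eq_zero.1 h4).resolve_left fun h0 => ?_
    rw [h0, zero_mul] at hy
    exact one_ne_zero (neg_eq_zero.1 hy.symm)
  rw [hUW, hW0, add_zero] at hUc hUU
  have h5 : (a : D) * (y * v) = 0 := h2 _ (by
    have := (hUc v).eq
    rw [mul_assoc, ← mul_assoc v (a : D), (cv a).eq, mul_assoc, hvy, mul_neg] at this
    exact this)
  rcases mul_eq_zero.1 h5 with h | h
  · rw [h, zero_mul, zero_mul] at hUU
    exact zero_ne_one hUU
  · rw [h, mul_zero] at t5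
    exact one_ne_zero (neg_eq_zero.1 t5.symm)

/-- Identities in the fifth cyclotomic field. -/
theorem five_identities {E : Type*} [Field E] {z : E} (hz : z ^ 5 = 1) (hz1 : z ≠ 1) :
    (z + z ^ 4) * (z + z ^ 4) = 1 - (z + z ^ 4) ∧
      (z - z ^ 4) * (z - z ^ 4) = -(3 + (z + z ^ 4)) ∧
      z ^ 2 + z ^ 8 = -1 - (z + z ^ 4) ∧ z ^ 2 - z ^ 8 = (z + z ^ 4) * (z - z ^ 4) := by
  have hsum : z ^ 4 + z ^ 3 + z ^ 2 + z + 1 = 0 := by
    have : (z ^ 4 + z ^ 3 + z ^ 2 + z + 1) * (z - 1) = 0 := by linear_combination hz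
    exact (mul_eq_zero.1 this).resolve_right (sub_ne_zero.2 hz1)
  refine ⟨?_, ?_, ?_, ?_⟩
  · linear_combination hsum + (2 + z ^ 3) * hz
  · linear_combination hsum + (-2 + z ^ 3) * hz
  · linear_combination hsum + z ^ 3 * hz
  · ring

/-- The structure carried by a binary dihedral group of order `20` in a division ring. -/
theorem dic_data [CharZero D] {z y : D} (hz : z ^ 5 = 1) (hz1 : z ≠ 1) (hy : y * y = -1)
    (hyz : y * z = z ^ 4 * y) :
    ∃ c u : D, c = z + z ^ 4 ∧ u = z - z ^ 4 ∧ c * c = 1 - c ∧ u * u = -(3 + c) ∧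
      z ^ 2 + z ^ 8 = -1 - c ∧ z ^ 2 - z ^ 8 = c * u ∧ Commute c y ∧ Commute u c ∧
      u * y = -(y * u) := by
  have hX : ∀ a ∈ ({z} : Set D), ∀ b ∈ ({z} : Set D), a * b = b * a := by
    rintro a rfl b rfl
    rfl
  obtain ⟨K, hXK, hK, -⟩ := exists_field hX
  letI : Field K :=
    { (inferInstance : DivisionRing K) with mul_comm := fun a b => Subtype.ext (hK a a.2 b b.2) }
  obtain ⟨e1, e2, e3, e4⟩ := five_identities (z := (⟨z, hXK rfl⟩ : K)) (Subtype.ext (by simpa using hz))
    (fun h => hz1 (congrArg (fun x : K => (x : D)) h))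
  have hyz4 : y * z ^ 4 = z * y := by
    have h16 : (z ^ 4) ^ 4 = z := by
      rw [← pow_mul, show 4 * 4 = 5 * 3 + 1 by norm_num, pow_succ, pow_mul, hz, one_pow, one_mul]
    have := (SemiconjBy.pow_right (hyz : SemiconjBy y z (z ^ 4)) 4).eq
    rwa [h16] at this
  have hz' : K.subtype ⟨z, hXK rfl⟩ = z := rfl
  refine ⟨z + z ^ 4, z - z ^ 4, rfl, rfl, ?_, ?_, ?_, ?_, ?_, ?_, ?_⟩
  · simpa only [map_add, map_mul, map_sub, map_neg, map_one, map_pow, map_ofNat, map_inv₀, hz'] using congrArg K.subtype e1
  · simpa only [map_add, map_mul, map_sub, map_neg, map_one, map_pow, map_ofNat, map_inv₀, hz'] using congrArg K.subtype e2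
  · simpa only [map_add, map_mul, map_sub, map_neg, map_one, map_pow, map_ofNat, map_inv₀, hz'] using congrArg K.subtype e3
  · simpa only [map_add, map_mul, map_sub, map_neg, map_one, map_pow, map_ofNat, map_inv₀, hz'] using congrArg K.subtype e4
  · show (z + z ^ 4) * y = y * (z + z ^ 4)
    rw [mul_add, add_mul, hyz, hyz4, add_comm]
  · exact ((Commute.refl z).add_right ((Commute.refl z).pow_right 4)).sub_left
      ((((Commute.refl z).pow_left 4).add_right ((Commute.refl (z ^ 4)))))
  · rw [sub_mul, mul_sub, hyz, hyz4, neg_sub]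

/-- A quaternion pair from the binary dihedral group. -/
theorem dic_pair [CharZero D] {y c u : D} (hy : y * y = -1) (hcc : c * c = 1 - c)
    (huu : u * u = -(3 + c)) (hcy : Commute c y) (huc : Commute u c) (huy : u * y = -(y * u)) :
    ∃ μ : D, μ = (3 + c)⁻¹ * (1 + (1 + c) * y) ∧
      (μ * u) * (μ * u) = -1 ∧ (μ * u) * y = -(y * (μ * u)) ∧
      Commute c (μ * u) ∧ (2 - c)⁻¹ * (1 - c * y) * c = -(y * μ) ∧
      (1 + 2 * c) * (1 + 2 * c) = 5 := by
  have hX : ∀ a ∈ ({c, y} : Set D), ∀ b ∈ ({c, y} : Set D), a * b = b * a := by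
    rintro a (rfl | rfl) b (rfl | rfl)
    · rfl
    · exact hcy.eq
    · exact hcy.eq.symm
    · rfl
  obtain ⟨K, hXK, hK, -⟩ := exists_field hX
  letI : Field K :=
    { (inferInstance : DivisionRing K) with mul_comm := fun a b => Subtype.ext (hK a a.2 b b.2) }
  haveI : CharZero K :=
    ⟨fun m n h => Nat.cast_injective (R := D) (by simpa using congrArg (fun z : K => (z : D)) h)⟩
  obtain ⟨C, hC⟩ : ∃ C : K, (C : D) = c := ⟨⟨c, hXK (by simp)⟩, rfl⟩
  obtain ⟨Y, hY⟩ : ∃ Y : K, (Y : D) = y := ⟨⟨y, hXK (by simp)⟩, rfl⟩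
  have hCC : C * C = 1 - C := Subtype.ext (by simpa [hC] using hcc)
  have hYY : Y * Y = -1 := Subtype.ext (by simpa [hY] using hy)
  have h3 : (3 + C) ≠ 0 := fun h => (by norm_num : (5 : K) ≠ 0)
    (by linear_combination hCC - (C - 2) * h)
  have h2 : (2 - C) ≠ 0 := fun h => (by norm_num : (5 : K) ≠ 0)
    (by linear_combination hCC + (C + 3) * h)
  have e1 : (3 + C)⁻¹ * (1 + (1 + C) * Y) * ((3 + C)⁻¹ * (1 - (1 + C) * Y)) * -(3 + C) = -1 := by
    field_simp
    linear_combination (1 + C) ^ 2 * hYY - hCC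
  have e2 : (2 - C)⁻¹ * (1 - C * Y) * C = -(Y * ((3 + C)⁻¹ * (1 + (1 + C) * Y))) := by
    field_simp
    linear_combination (1 + C) * (2 - C) * hYY + (2 - (C + 2) * Y) * hCC
  have e3 : (1 + 2 * C) * (1 + 2 * C) = 5 := by linear_combination 4 * hCC
  have hC' : K.subtype C = c := hC
  have hY' : K.subtype Y = y := hY
  set μ : D := (3 + c)⁻¹ * (1 + (1 + c) * y) with hμ
  set μ' : D := (3 + c)⁻¹ * (1 - (1 + c) * y) with hμ'
  have f1 : μ * μ' * -(3 + c) = -1 := by
    simpa only [map_add, map_mul, map_sub, map_neg, map_one, map_pow, map_ofNat, map_inv₀, hC', hY', ← hμ, ← hμ'] using congrArg K.subtype e1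
  have uμ : u * μ = μ' * u := by
    have cu : Commute u (3 + c)⁻¹ := ((Commute.ofNat_right u 3).add_right huc).inv_right₀
    have c1 : Commute u (1 + c) := (Commute.one_right u).add_right huc
    rw [hμ, hμ', ← mul_assoc, cu.eq, mul_assoc, mul_assoc, mul_add, mul_one, sub_mul, one_mul,
      ← mul_assoc u (1 + c), c1.eq, mul_assoc (1 + c) u, huy, mul_neg, ← mul_assoc, ← sub_eq_add_neg]
  have c3 : Commute c (3 + c)⁻¹ := ((Commute.ofNat_right c 3).add_right (Commute.refl c)).inv_right₀
  have y3 : Commute y (3 + c)⁻¹ := ((Commute.ofNat_right y 3).add_right hcy.symm).inv_right₀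
  have cμ : Commute c μ := c3.mul_right ((Commute.one_right c).add_right
    (((Commute.one_right c).add_right (Commute.refl c)).mul_right hcy))
  have yμ : Commute y μ := y3.mul_right ((Commute.one_right y).add_right
    (((Commute.one_right y).add_right hcy.symm).mul_right (Commute.refl y)))
  refine ⟨μ, rfl, ?_, ?_, cμ.mul_right huc.symm, ?_, ?_⟩
  · rw [mul_assoc μ u, ← mul_assoc u μ, uμ, mul_assoc μ' u u, huu, ← mul_assoc, f1]
  · rw [mul_assoc, huy, mul_neg, ← mul_assoc, ← yμ.eq, mul_assoc]
  · simpa only [map_add, map_mul, map_sub, map_neg, map_one, map_pow, map_ofNat, map_inv₀, hC', hY', ← hμ] using congrArg K.subtype e2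
  · simpa only [map_add, map_mul, map_sub, map_neg, map_one, map_pow, map_ofNat, map_inv₀, hC'] using congrArg K.subtype e3

/-- No binary dihedral group of order `20` commutes with a root of unity of order `p ≥ 7`. -/
theorem dic_times_prime_absurd [CharZero D] {z y η : D} (hz : z ^ 5 = 1) (hz1 : z ≠ 1)
    (hy : y * y = -1) (hyz : y * z = z ^ 4 * y) (hηz : Commute η z) (hηy : Commute η y)
    {p : ℕ} (hp : p.Prime) (hp7 : 7 ≤ p) (hη : η ^ p = 1) (hη1 : η ≠ 1) : False := by
  obtain ⟨c, u, hc, hu, hcc, huu, -, -, hcy, huc, huy⟩ := dic_data hz hz1 hy hyz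
  obtain ⟨μ, hμ, hvv, hvy, hcv, -, hss⟩ := dic_pair hy hcc huu hcy huc huy
  have ηc : Commute η c := by rw [hc]; exact hηz.add_right (hηz.pow_right 4)
  have ηu : Commute η u := by rw [hu]; exact hηz.sub_right (hηz.pow_right 4)
  have ημ : Commute η μ := by
    rw [hμ]
    exact ((Commute.ofNat_right η 3).add_right ηc).inv_right₀.mul_right
      ((Commute.one_right η).add_right (((Commute.one_right η).add_right ηc).mul_right hηy))
  have cs : ∀ x : D, Commute c x → Commute (1 + 2 * c) x := fun x hx =>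
    (Commute.one_left x).add_left ((Commute.ofNat_left 2 x).mul_left hx)
  exact quat_absurd (s := 1 + 2 * c) (y := y) (v := μ * u) (cs η ηc.symm) (cs y hcy) (cs _ hcv)
    hηy (ημ.mul_right ηu) hy hvv hvy hss hp hp7 hη hη1

/-- No element induces an automorphism of order four on a subgroup of order five and has
fourth power `-1`. -/
theorem semilinear_absurd [CharZero D] {z g : D} (hz : z ^ 5 = 1) (hz1 : z ≠ 1)
    (hgz : g * z = z ^ 2 * g) (hy : g * g * (g * g) = -1) : False := by
  set y := g * g with hydef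
  have hyz : y * z = z ^ 4 * y := by
    have h1 : SemiconjBy g z (z ^ 2) := hgz
    have h2 := (h1.pow_right 2)
    rw [← pow_mul] at h2
    exact (h2.mul_left h1 : SemiconjBy (g * g) z (z ^ (2 * 2)))
  obtain ⟨c, u, hc, hu, hcc, huu, e3, e4, hcy, huc, huy⟩ := dic_data hz hz1 hy hyz
  obtain ⟨μ, hμ, hvv, hvy, hcv, hσ, hss⟩ := dic_pair hy hcc huu hcy huc huy
  set v := μ * u with hv
  have gy : SemiconjBy g y y := by
    show g * (g * g) = g * g * g
    rw [mul_assoc]
  have gz4 : SemiconjBy g (z ^ 4) (z ^ 8) := by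
    have := SemiconjBy.pow_right (hgz : SemiconjBy g z (z ^ 2)) 4
    rwa [← pow_mul] at this
  have gc : SemiconjBy g c (-1 - c) := by
    have := SemiconjBy.add_right (hgz : SemiconjBy g z (z ^ 2)) gz4
    rwa [e3, ← hc] at this
  have gu : SemiconjBy g u (c * u) := by
    have := SemiconjBy.sub_right (hgz : SemiconjBy g z (z ^ 2)) gz4
    rwa [e4, ← hu] at this
  have gn : ∀ n : ℕ, SemiconjBy g (n : D) (n : D) := fun n => (Nat.commute_cast g n)
  have g3 : SemiconjBy g (3 + c) (2 - c) := by
    have := (show SemiconjBy g (3 : D) (3 : D) from gn 3).add_right gc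
    rwa [show (3 : D) + (-1 - c) = 2 - c by
      rw [← add_sub_assoc]; norm_num] at this
  have g1c : SemiconjBy g (1 + c) (-c) := by
    have := (SemiconjBy.one_right g).add_right gc
    rwa [show (1 : D) + (-1 - c) = -c by abel] at this
  have gw : SemiconjBy g (1 + (1 + c) * y) (1 - c * y) := by
    have := (SemiconjBy.one_right g).add_right (g1c.mul_right gy)
    rwa [neg_mul, ← sub_eq_add_neg] at this
  have gv : SemiconjBy g v (-(y * v)) := by
    have := (g3.inv_right₀.mul_right gw).mul_right gu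
    rw [← hμ, ← hv, ← mul_assoc, hσ, neg_mul, mul_assoc, ← hv] at this
    exact this
  set e := (1 + y) * g with he
  have yg : Commute y g := gy.eq.symm
  have y1g : Commute g (1 + y) := (Commute.one_right g).add_right yg.symm
  have hee : e * e = -2 := by
    rw [he, mul_assoc, ← mul_assoc g (1 + y), y1g.eq, mul_assoc (1 + y) g g, ← hydef]
    calc (1 + y) * ((1 + y) * y) = y + 2 * (y * y) + y * y * y := by noncomm_ring
      _ = -2 := by rw [hy, ← one_add_one_eq_two]; noncomm_ring
  have hev : Commute e v := by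
    show e * v = v * e
    rw [he, mul_assoc, gv.eq, ← mul_assoc, ← mul_assoc v (1 + y) g]
    congr 1
    rw [add_mul, one_mul, mul_add, mul_one, mul_neg, ← mul_assoc y y v, hy, hvy]
    noncomm_ring
  have hey : Commute e y := ((Commute.one_left y).add_left (Commute.refl y)).mul_left yg.symm
  set s := 1 + 2 * c with hsdef
  have gs : SemiconjBy g s (-s) := by
    have := (SemiconjBy.one_right g).add_right ((show SemiconjBy g (2 : D) 2 from gn 2).mul_right gc)
    rwa [show (1 : D) + 2 * (-1 - c) = -(1 + 2 * c) by noncomm_ring] at this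
  have sy : Commute s y := (Commute.one_left y).add_left ((Commute.ofNat_left 2 y).mul_left hcy)
  have sv : Commute s v := (Commute.one_left v).add_left ((Commute.ofNat_left 2 v).mul_left hcv)
  have hes : e * s = -(s * e) := by
    rw [he, mul_assoc, gs.eq, ← mul_assoc, mul_neg,
      ← ((Commute.one_right s).add_right sy).eq, neg_mul, mul_assoc]
  set m := y + v with hm
  have hem : Commute e m := hey.add_right hev
  have hmm : m * m = -2 := by
    rw [hm, add_mul, mul_add, mul_add, hy, hvv, hvy, ← one_add_one_eq_two]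
    abel
  have h0 : (e - m) * (e + m) = 0 := by
    rw [sub_mul, mul_add e, mul_add m, hee, hmm, hem.eq]
    abel
  have hsm : Commute s m := sy.add_right sv
  have hse : Commute s e := by
    rcases mul_eq_zero.1 h0 with h | h
    · rw [sub_eq_zero.1 h]; exact hsm
    · rw [eq_neg_of_add_eq_zero_left h]; exact hsm.neg_right
  rw [← hse.eq] at hes
  have h1 : (2 : D) * (s * e) = 0 := by
    rw [two_mul]; exact add_eq_zero_iff_eq_neg.2 hes
  rcases mul_eq_zero.1 ((mul_eq_zero.1 h1).resolve_left two_ne_zero) with h | h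
  · rw [h, zero_mul] at hss
    exact (by norm_num : (5 : D) ≠ 0) hss.symm
  · rw [h, zero_mul] at hee
    exact two_ne_zero (neg_eq_zero.1 hee.symm)

end Cfsg.Agent.DivRingFG
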