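import Mathlib.LinearAlgebra.Matrix.SpecialLinearGroup
import Mathlib.LinearAlgebra.Matrix.Charpoly.FiniteField
import Mathlib.LinearAlgebra.Matrix.Notation
import Mathlib.Tactic.LinearCombination
import Mathlib.Tactic.FieldSimp
import Mathlib.Tactic.FinCases

/-!
Facts about elements of order five in `SL(2,5)`.
-/

set_option autoImplicit false
set_option linter.style.haveILetI false

namespace Cfsg.Agent.DivRingFG.SL25

instance : Fact (Nat.Prime 5) := ⟨Nat.prime_five⟩

abbrev M5 := Matrix.SpecialLinearGroup (Fin 2) (ZMod 5)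

/-- Upper unitriangular matrix. -/
def T (b : ZMod 5) : M5 := ⟨!![1, b; 0, 1], by simp [Matrix.det_fin_two]⟩

/-- Lower unitriangular matrix. -/
def W (c : ZMod 5) : M5 := ⟨!![1, 0; c, 1], by simp [Matrix.det_fin_two]⟩

/-- The matrix `diag(2, 3)`. -/
def Y0 : M5 := ⟨!![2, 0; 0, 3], by decide⟩

/-- The central involution. -/
def NegOne : M5 := ⟨!![-1, 0; 0, -1], by decide⟩

/-- The Weyl element. -/
def Wl : M5 := ⟨!![0, 1; -1, 0], by decide⟩

theorem T_pow : ∀ k : ZMod 5, T k = T 1 ^ k.val := by decide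
theorem W_pow : ∀ k : ZMod 5, W k = W 1 ^ k.val := by decide
theorem W_mul : ∀ c k : ZMod 5, W (c * k) = W c ^ k.val := by decide
theorem T_add : ∀ a b : ZMod 5, T a * T b = T (a + b) := by decide
theorem W_eq_conj : ∀ c : ZMod 5, W c = Wl * T (-c) * Wl⁻¹ := by decide
theorem NegOne_sq : NegOne * NegOne = 1 := by decide
theorem NegOne_ne : NegOne ≠ 1 := by decide
theorem T1_pow : T 1 ^ 5 = 1 := by decide
theorem T1_ne : T 1 ≠ 1 := by decide
theorem T_zero : T 0 = 1 := by decide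
theorem Y0_sq : Y0 * Y0 = NegOne := by decide
theorem Y0_T : Y0 * T 1 = T 1 ^ 4 * Y0 := by decide
theorem Y0_T4 : Y0 * T 4 * Y0⁻¹ = T 1 := by decide
theorem Y0_T3 : Y0 * T 3 * Y0⁻¹ = T 2 := by decide
theorem T2_eq : T 2 = T 1 ^ 2 := by decide
theorem Y0_word : Y0 = T 2 * W 2 * T 2 * (T (-1) * W 1 * T (-1)) := by decide
theorem T1_ne_Y0 : T 1 * Y0 ≠ Y0 * T 1 := by decide

theorem four_mul_self (k : ZMod 5) : T (-(3 : ZMod 5) * k) * T (-(3 : ZMod 5) * k) * T k = 1 := by
  rw [T_add, T_add, ← T_zero]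
  congr 1
  have h5 : (5 : ZMod 5) = 0 := rfl
  linear_combination (-1 : ZMod 5) * k * h5

theorem involution_W1 : ∀ j c : ZMod 5,
    T j * T j * W (c * c) * T (-j) * T (-j) = W 1 → j = 0 ∧ (c = 1 ∨ c = 4) := by decide

theorem T1W4_pow : (T 1 * W 4) ^ 10 ≠ 1 := by decide
theorem T1W1_pow : (T 1 * W 1) ^ 10 = 1 := by decide
theorem W1_ne_T : ∀ b : ZMod 5, W 1 ≠ T b := by decide

theorem comm_T1 {x : M5} (h : x * T 1 = T 1 * x) : ∃ k, x = T k ∨ x = NegOne * T k := by
  obtain ⟨m, hm⟩ := x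
  have h' : m * !![1, 1; 0, 1] = !![1, 1; 0, 1] * m := congrArg Subtype.val h
  have e00 := congrFun (congrFun h' 0) 0
  have e01 := congrFun (congrFun h' 0) 1
  simp [Matrix.mul_apply, Fin.sum_univ_two] at e00 e01
  have hd : m 0 0 = m 1 1 := by linear_combination e01
  have hdet : m 0 0 * m 1 1 - m 0 1 * m 1 0 = 1 := by rw [← Matrix.det_fin_two]; exact hm
  have hsq : m 0 0 = 1 ∨ m 0 0 = -1 :=
    mul_self_eq_one_iff.1 (by rw [e00] at hdet; linear_combination hdet + m 0 0 * hd)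
  rcases hsq with h1 | h1
  · refine ⟨m 0 1, Or.inl (Subtype.ext ?_)⟩
    show m = !![1, m 0 1; 0, 1]
    ext i j
    fin_cases i <;> fin_cases j <;> simp [h1, e00, ← hd]
  · refine ⟨-m 0 1, Or.inr (Subtype.ext ?_)⟩
    show m = !![-1, 0; 0, -1] * !![1, -m 0 1; 0, 1]
    ext i j
    fin_cases i <;> fin_cases j <;> simp [h1, e00, ← hd, Matrix.mul_apply, Fin.sum_univ_two]

theorem invert_T1 {x : M5} (h : x * T 1 = T 1 ^ 4 * x) : x * x = NegOne := by
  obtain ⟨m, hm⟩ := x
  rw [show T 1 ^ 4 = T 4 by decide] at h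
  have h' : m * !![1, 1; 0, 1] = !![1, 4; 0, 1] * m := congrArg Subtype.val h
  have e00 := congrFun (congrFun h' 0) 0
  have e01 := congrFun (congrFun h' 0) 1
  simp [Matrix.mul_apply, Fin.sum_univ_two] at e00 e01
  have h5 : (5 : ZMod 5) = 0 := rfl
  have h40 : (4 : ZMod 5) ≠ 0 := by decide
  have e00' : m 1 0 = 0 := e00.resolve_left h40
  have hd : m 0 0 = -m 1 1 := by linear_combination e01 + m 1 1 * h5
  have hdet : m 0 0 * m 1 1 - m 0 1 * m 1 0 = 1 := by rw [← Matrix.det_fin_two]; exact hm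
  rw [e00', hd] at hdet
  apply Subtype.ext
  show m * m = !![-1, 0; 0, -1]
  ext i j
  fin_cases i <;> fin_cases j <;> simp [Matrix.mul_apply, Fin.sum_univ_two, e00', hd]
  · linear_combination -hdet
  · ring
  · linear_combination -hdet

theorem order_five_form {x : M5} (hx : x ^ 5 = 1) :
    (∃ b, x = T b) ∨ ∃ j c, x = T j * W c * T (-j) := by
  have h' : (x : Matrix (Fin 2) (Fin 2) (ZMod 5)) ^ 5 = 1 := by
    rw [← Matrix.SpecialLinearGroup.coe_pow, hx, Matrix.SpecialLinearGroup.coe_one]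
  obtain ⟨m, hm⟩ := x
  change m ^ 5 = 1 at h'
  have ht : m 0 0 + m 1 1 = 2 := by
    have := ZMod.trace_pow_card m
    rw [h', ZMod.pow_card, Matrix.trace_one, Matrix.trace_fin_two] at this
    simpa using this.symm
  have hdet : m 0 0 * m 1 1 - m 0 1 * m 1 0 = 1 := by rw [← Matrix.det_fin_two]; exact hm
  by_cases hc : m 1 0 = 0
  · left
    have ha : m 0 0 = 1 := by
      have : (m 0 0 - 1) * (m 0 0 - 1) = 0 := by
        rw [hc] at hdet
        linear_combination -hdet + m 0 0 * ht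
      exact sub_eq_zero.1 (mul_self_eq_zero.1 this)
    have hd : m 1 1 = 1 := by linear_combination ht - ha
    refine ⟨m 0 1, Subtype.ext ?_⟩
    show m = !![1, m 0 1; 0, 1]
    ext i j
    fin_cases i <;> fin_cases j <;> simp [ha, hd, hc]
  · right
    refine ⟨(m 0 0 - 1) / m 1 0, m 1 0, Subtype.ext ?_⟩
    show m = !![1, (m 0 0 - 1) / m 1 0; 0, 1] * !![1, 0; m 1 0, 1] *
      !![1, -((m 0 0 - 1) / m 1 0); 0, 1]
    have hq : (m 0 0 - 1) / m 1 0 * m 1 0 = m 0 0 - 1 := div_mul_cancel₀ _ hc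
    set q := (m 0 0 - 1) / m 1 0 with hqdef
    ext i j
    fin_cases i <;> fin_cases j <;> simp [Matrix.mul_apply, Fin.sum_univ_two]
    · linear_combination -hq
    · apply mul_right_cancel₀ hc
      linear_combination -hdet + m 0 0 * ht + (q * m 1 0 + m 0 0 - 1) * hq
    · linear_combination ht + hq

/-- Every nontrivial element of order dividing five is conjugate to an upper unitriangular one. -/
theorem conj_to_T {x : M5} (hx : x ^ 5 = 1) : ∃ s b, s * x * s⁻¹ = T b := by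
  rcases order_five_form hx with ⟨b, rfl⟩ | ⟨j, c, rfl⟩
  · exact ⟨1, b, by simp⟩
  · refine ⟨Wl⁻¹ * (T j)⁻¹, -c, ?_⟩
    have : T (-j) = (T j)⁻¹ := eq_inv_of_mul_eq_one_left (by rw [T_add, neg_add_cancel, T_zero])
    rw [W_eq_conj, this]
    group

/-- An automorphism of order at most two fixing `T 1` fixes `Y0`. -/
theorem aut_fix_Y0 (α : M5 ≃* M5) (hα : α (T 1) = T 1) (h2 : ∀ x, α (α x) = x) : α Y0 = Y0 := by
  have hT : ∀ k, α (T k) = T k := fun k => by rw [T_pow, map_pow, hα]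
  have hTpow : (α (W 1)) ^ 5 = 1 := by rw [← map_pow, show W 1 ^ 5 = 1 by decide, map_one]
  have hW : α (W 1) = W 1 := by
    rcases order_five_form hTpow with ⟨b, hb⟩ | ⟨j, c, hjc⟩
    · exact absurd (α.injective (hb.trans (hT b).symm)) (W1_ne_T b)
    · have hinv : T (-j) = (T j)⁻¹ :=
        eq_inv_of_mul_eq_one_left (by rw [T_add, neg_add_cancel, T_zero])
      have hWc : ∀ k, α (W k) = T j * W (c * k) * T (-j) := fun k => by
        have hk : W (c * k) = W c ^ k.val := W_mul c k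
        rw [W_pow k, map_pow, hjc, hinv, conj_pow, hk]
      have := h2 (W 1)
      rw [hjc, map_mul, map_mul, hT, hT, hWc] at this
      obtain ⟨rfl, hc⟩ := involution_W1 j c (by rw [← this]; group)
      rw [neg_zero, T_zero, one_mul, mul_one] at hjc
      rcases hc with rfl | rfl
      · exact hjc
      · refine absurd ?_ T1W4_pow
        have := congrArg α T1W1_pow
        rwa [map_pow, map_mul, hα, hjc, map_one] at this
  have hWk : ∀ k, α (W k) = W k := fun k => by rw [W_pow k, map_pow, hW]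
  rw [Y0_word, map_mul, map_mul, map_mul, map_mul, map_mul, hT, hT, hWk, hWk]

end Cfsg.Agent.DivRingFG.SL25
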