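import Mathlib.NumberTheory.GaussSum
import Mathlib.NumberTheory.LegendreSymbol.QuadraticReciprocity
import Mathlib.NumberTheory.LSeries.PrimesInAP
import Mathlib.NumberTheory.NumberField.Cyclotomic.Basic
import Mathlib.RingTheory.Polynomial.Cyclotomic.Roots
import Mathlib.RingTheory.Polynomial.Basic
import Mathlib.Tactic.LinearCombination
import Mathlib.Tactic.IntervalCases
import Mathlib.Tactic.FieldSimp

/-!
`-1` is a sum of three squares in every field of characteristic zero containing `√5` and a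
nontrivial root of unity of prime order `p ≥ 7`.
-/

set_option autoImplicit false
set_option linter.style.haveILetI false

namespace Cfsg.Agent.DivRingFG

open Polynomial

/-- `x` is a sum of two squares. -/
def TwoSq {K : Type*} [Field K] (x : K) : Prop := ∃ a b : K, x = a ^ 2 + b ^ 2

theorem TwoSq.div {K : Type*} [Field K] {x y : K} (hx : TwoSq x) (hy : TwoSq y) (h0 : y ≠ 0) :
    TwoSq (x / y) := by
  obtain ⟨a, b, rfl⟩ := hx
  obtain ⟨c, d, rfl⟩ := hy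
  refine ⟨(a * c + b * d) / (c ^ 2 + d ^ 2), (a * d - b * c) / (c ^ 2 + d ^ 2), ?_⟩
  field_simp
  ring

/-- The cyclotomic polynomial of a prime `ℓ ≡ 3 (mod 4)` is of the form `(A² + ℓ B²)/c`. -/
theorem gauss_form (ℓ : ℕ) [Fact ℓ.Prime] (h4 : ℓ % 4 = 3) :
    ∃ A B : ℚ[X], A.eval 0 ^ 2 + (ℓ : ℚ) * B.eval 0 ^ 2 ≠ 0 ∧
      C (A.eval 0 ^ 2 + (ℓ : ℚ) * B.eval 0 ^ 2) * cyclotomic ℓ ℚ =
        A ^ 2 + C (ℓ : ℚ) * B ^ 2 := by
  classical
  have hℓ : ℓ.Prime := Fact.out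
  haveI : NeZero ℓ := ⟨hℓ.ne_zero⟩
  let L := CyclotomicField ℓ ℚ
  haveI : IsCyclotomicExtension {ℓ} ℚ L := CyclotomicField.isCyclotomicExtension ℓ ℚ
  have hζ := IsCyclotomicExtension.zeta_spec ℓ ℚ L
  set ζ : L := IsCyclotomicExtension.zeta ℓ ℚ L
  have hring : ringChar (ZMod ℓ) ≠ 2 := by rw [ZMod.ringChar_zmod_n]; omega
  let χ : MulChar (ZMod ℓ) L := (quadraticChar (ZMod ℓ)).ringHomComp (Int.castRingHom L)
  have hχ1 : χ ≠ 1 :=
    (MulChar.ringHomComp_ne_one_iff (Int.cast_injective (α := L))).2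
      (quadraticChar_ne_one hring)
  have hχ2 : χ.IsQuadratic := (quadraticChar_isQuadratic (ZMod ℓ)).comp _
  obtain ⟨g, hg⟩ : ∃ g : L, g ^ 2 = -(ℓ : L) := by
    refine ⟨gaussSum χ (AddChar.zmodChar ℓ ((IsPrimitiveRoot.iff_def ζ ℓ).mp hζ).left), ?_⟩
    rw [gaussSum_sq hχ1 hχ2 (AddChar.zmodChar_primitive_of_primitive_root ℓ hζ),
      ZMod.card, show χ (-1) = ((quadraticChar (ZMod ℓ) (-1) : ℤ) : L) from rfl,
      quadraticChar_neg_one hring, ZMod.card, ZMod.χ₄_nat_three_mod_four h4]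
    push_cast
    ring
  set h := ℓ / 2 with hh
  have hℓh : ℓ = 2 * h + 1 := by omega
  let φ : (degreeLT ℚ (h + 1) × degreeLT ℚ (h + 1)) →ₗ[ℚ] L :=
    ((aeval ζ).toLinearMap.comp (degreeLT ℚ (h + 1)).subtype).coprod
      ((LinearMap.mulLeft ℚ g).comp
        ((aeval ζ).toLinearMap.comp (degreeLT ℚ (h + 1)).subtype))
  have hφ : ∀ A B, φ (A, B) = aeval ζ (A : ℚ[X]) + g * aeval ζ (B : ℚ[X]) := fun A B => rfl
  have hni : ¬ Function.Injective φ := by
    intro hinj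
    haveI : Module.Finite ℚ (degreeLT ℚ (h + 1)) :=
      Module.Finite.equiv (degreeLTEquiv ℚ (h + 1)).symm
    have := LinearMap.finrank_le_finrank_of_injective hinj
    rw [Module.finrank_prod, (degreeLTEquiv ℚ (h + 1)).finrank_eq, Module.finrank_fin_fun,
      IsCyclotomicExtension.Rat.finrank ℓ L, Nat.totient_prime hℓ] at this
    omega
  obtain ⟨⟨⟨A, hA⟩, ⟨B, hB⟩⟩, hv0, hv⟩ :
      ∃ v, v ≠ 0 ∧ φ v = 0 := by
    by_contra hne
    refine hni ((injective_iff_map_eq_zero φ).2 fun v hv => ?_)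
    by_contra hv0
    exact hne ⟨v, hv0, hv⟩
  rw [hφ] at hv
  simp only at hv
  set F : ℚ[X] := A ^ 2 + C (ℓ : ℚ) * B ^ 2 with hF
  have hroot : aeval ζ F = 0 := by
    have e : aeval ζ A = -(g * aeval ζ B) := eq_neg_of_add_eq_zero_left hv
    rw [hF]
    simp only [map_add, map_mul, map_pow, aeval_C, e, map_natCast]
    linear_combination (aeval ζ B) ^ 2 * hg
  have hdvd : cyclotomic ℓ ℚ ∣ F := by
    rw [cyclotomic_eq_minpoly_rat hζ hℓ.pos]
    exact minpoly.dvd ℚ ζ hroot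
  have hdeg : F.natDegree ≤ 2 * h := by
    have h1 : ∀ P : ℚ[X], P ∈ degreeLT ℚ (h + 1) → P.natDegree ≤ h := fun P hP =>
      natDegree_le_iff_degree_le.2 (by
        rw [mem_degreeLT] at hP
        rcases eq_or_ne P 0 with rfl | h0
        · simp
        · rw [degree_eq_natDegree h0] at hP ⊢
          exact_mod_cast Nat.lt_succ_iff.1 (by exact_mod_cast hP))
    refine (natDegree_add_le _ _).trans (max_le ?_ ?_)
    · exact natDegree_pow_le.trans (Nat.mul_le_mul_left 2 (h1 A hA))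
    · exact (natDegree_C_mul_le _ _).trans
        (natDegree_pow_le.trans (Nat.mul_le_mul_left 2 (h1 B hB)))
  have hFne : F ≠ 0 := by
    intro hF0
    have hev : ∀ x : ℚ, A.eval x = 0 ∧ B.eval x = 0 := by
      intro x
      have h2 : A.eval x ^ 2 + (ℓ : ℚ) * B.eval x ^ 2 = 0 := by
        simpa [hF] using congrArg (Polynomial.eval x) hF0
      have h3 : (0 : ℚ) < ℓ := by exact_mod_cast hℓ.pos
      obtain ⟨h4a, h4b⟩ := (add_eq_zero_iff_of_nonneg (sq_nonneg _)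
        (mul_nonneg h3.le (sq_nonneg _))).1 h2
      exact ⟨sq_eq_zero_iff.1 h4a,
        sq_eq_zero_iff.1 ((mul_eq_zero.1 h4b).resolve_left h3.ne')⟩
    have hA0 : A = 0 := funext fun x => by rw [(hev x).1, eval_zero]
    have hB0 : B = 0 := funext fun x => by rw [(hev x).2, eval_zero]
    exact hv0 (by simp [hA0, hB0])
  obtain ⟨Q, hQ⟩ := hdvd
  have hQ0 : Q ≠ 0 := fun h0 => hFne (by rw [hQ, h0, mul_zero])
  have hQd : Q.natDegree = 0 := by
    have := natDegree_mul (cyclotomic_ne_zero ℓ ℚ) hQ0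
    rw [← hQ, natDegree_cyclotomic, Nat.totient_prime hℓ] at this
    omega
  obtain ⟨q, rfl⟩ := natDegree_eq_zero.1 hQd
  have hq : q = A.eval 0 ^ 2 + (ℓ : ℚ) * B.eval 0 ^ 2 := by
    have := congrArg (Polynomial.eval 0) hQ
    simp only [hF, eval_add, eval_mul, eval_pow, eval_C, cyclotomic_prime ℚ ℓ,
      eval_geom_sum] at this
    rw [this, zero_geom_sum, if_neg hℓ.ne_zero, one_mul]
  refine ⟨A, B, fun h0 => hQ0 (by rw [hq, h0, map_zero]), ?_⟩
  rw [← hq, ← hF, hQ, mul_comm]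

/-- A small multiple of `ℓ` of the form `x² + 5 y²`. -/
theorem thue (ℓ : ℕ) [Fact ℓ.Prime] (r : ZMod ℓ) (hr : r * r = -5) :
    ∃ (x y : ℤ) (k : ℕ), 1 ≤ k ∧ k ≤ 5 ∧ x ^ 2 + 5 * y ^ 2 = (k : ℤ) * ℓ := by
  classical
  have hℓ : ℓ.Prime := Fact.out
  haveI : NeZero ℓ := ⟨hℓ.ne_zero⟩
  set m := Nat.sqrt ℓ with hm
  have hm1 : m * m ≤ ℓ := Nat.sqrt_le ℓ
  have hm2 : ℓ < (m + 1) * (m + 1) := Nat.lt_succ_sqrt ℓ
  have hm3 : m * m ≠ ℓ := by
    intro he
    rw [← he] at hℓ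
    rcases Nat.prime_mul_iff.1 hℓ with ⟨h1, h2⟩ | ⟨h1, h2⟩ <;> exact h1.ne_one h2
  obtain ⟨u, v, huv, he⟩ := Fintype.exists_ne_map_eq_of_card_lt
    (fun w : Fin (m + 1) × Fin (m + 1) => ((w.1 : ℕ) : ZMod ℓ) - r * ((w.2 : ℕ) : ZMod ℓ))
    (by rw [ZMod.card, Fintype.card_prod, Fintype.card_fin]; exact hm2)
  set x : ℤ := ((u.1 : ℕ) : ℤ) - (v.1 : ℕ) with hx
  set y : ℤ := ((u.2 : ℕ) : ℤ) - (v.2 : ℕ) with hy
  have hxy : (x : ZMod ℓ) = r * (y : ZMod ℓ) := by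
    rw [hx, hy]
    push_cast
    linear_combination he
  have hdvd : (ℓ : ℤ) ∣ x ^ 2 + 5 * y ^ 2 := by
    rw [← ZMod.intCast_zmod_eq_zero_iff_dvd]
    push_cast
    rw [hxy]
    linear_combination (y : ZMod ℓ) ^ 2 * hr
  obtain ⟨k, hk⟩ := hdvd
  have hbound : ∀ a b : Fin (m + 1), (((a : ℕ) : ℤ) - (b : ℕ)) ^ 2 ≤ (m : ℤ) * m := by
    intro a b
    have ha : ((a : ℕ) : ℤ) ≤ m := by exact_mod_cast Nat.lt_succ_iff.1 a.isLt
    have hb : ((b : ℕ) : ℤ) ≤ m := by exact_mod_cast Nat.lt_succ_iff.1 b.isLt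
    have h0 : (0 : ℤ) ≤ (a : ℕ) := Int.natCast_nonneg _
    have h0' : (0 : ℤ) ≤ (b : ℕ) := Int.natCast_nonneg _
    nlinarith
  have hxb : x ^ 2 ≤ (m : ℤ) * m := hbound _ _
  have hyb : y ^ 2 ≤ (m : ℤ) * m := hbound _ _
  have hmz : (m : ℤ) * m < ℓ := by exact_mod_cast lt_of_le_of_ne hm1 hm3
  have hℓ0 : (0 : ℤ) < ℓ := by exact_mod_cast hℓ.pos
  have hk1 : 1 ≤ k := by
    by_contra hk0
    push_neg at hk0
    have h1 : (ℓ : ℤ) * k ≤ 0 := Int.mul_nonpos_of_nonneg_of_nonpos hℓ0.le (by omega)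
    have hx0 : x = 0 := by
      by_contra hne
      have : 0 < x ^ 2 := by positivity
      nlinarith [sq_nonneg y]
    have hy0 : y = 0 := by
      by_contra hne
      have : 0 < y ^ 2 := by positivity
      nlinarith [sq_nonneg x]
    refine huv (Prod.ext (Fin.ext ?_) (Fin.ext ?_))
    · rw [hx] at hx0; omega
    · rw [hy] at hy0; omega
  have hk5 : k ≤ 5 := by
    by_contra hk6
    push_neg at hk6
    have : (ℓ : ℤ) * 6 ≤ ℓ * k := Int.mul_le_mul_of_nonneg_left (by omega) hℓ0.le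
    nlinarith
  refine ⟨x, y, k.toNat, by omega, by omega, ?_⟩
  rw [Int.toNat_of_nonneg (by omega), hk, mul_comm]

theorem three_not_square : ¬ IsSquare (3 : ZMod 5) := by decide

theorem neg_five_isSquare (ℓ : ℕ) [Fact ℓ.Prime] (h20 : ℓ % 20 = 3) :
    ∃ r : ZMod ℓ, r * r = -5 := by
  haveI : Fact (Nat.Prime 5) := ⟨Nat.prime_five⟩
  have h2 : ℓ ≠ 2 := by omega
  have hn1 : ¬ IsSquare (-1 : ZMod ℓ) := by
    rw [ZMod.exists_sq_eq_neg_one_iff]; omega
  have hn5 : ¬ IsSquare (5 : ZMod ℓ) := by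
    have h := ZMod.exists_sq_eq_prime_iff_of_mod_four_eq_one (p := 5) (q := ℓ) (by norm_num) h2
    have h' : (ℓ : ZMod 5) = 3 := by
      rw [← ZMod.natCast_mod]; rw [show ℓ % 5 = 3 by omega]; rfl
    rw [h'] at h
    intro hs
    have h3 : IsSquare (3 : ZMod 5) := h.2 (by exact_mod_cast hs)
    exact three_not_square h3
  have hring : ringChar (ZMod ℓ) ≠ 2 := by rw [ZMod.ringChar_zmod_n]; exact h2
  have h50 : (5 : ZMod ℓ) ≠ 0 := fun h0 => hn5 (by rw [h0]; exact ⟨0, by simp⟩)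
  have h : quadraticChar (ZMod ℓ) (-5) = 1 := by
    rw [show (-5 : ZMod ℓ) = -1 * 5 by ring, map_mul,
      (quadraticChar_neg_one_iff_not_isSquare).2 hn1,
      (quadraticChar_neg_one_iff_not_isSquare).2 hn5]
    norm_num
  obtain ⟨r, hr⟩ := (quadraticChar_one_iff_isSquare (neg_ne_zero.2 h50)).1 h
  exact ⟨r, hr.symm⟩

/-- `-1` is a sum of three squares. -/
theorem three_squares {K : Type*} [Field K] [CharZero K] {s η : K} (hs : s * s = 5) {p : ℕ}
    (hp : p.Prime) (hp7 : 7 ≤ p) (hη : η ^ p = 1) (hη1 : η ≠ 1) :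
    ∃ a b c : K, a ^ 2 + b ^ 2 + c ^ 2 = -1 := by
  classical
  have hp2 : p % 2 = 1 := by
    rcases hp.eq_two_or_odd with h | h <;> omega
  have hco : Nat.Coprime 20 p := by
    rw [Nat.coprime_comm, hp.coprime_iff_not_dvd]
    intro hd
    have : p ≤ 20 := Nat.le_of_dvd (by norm_num) hd
    interval_cases p <;> norm_num at *
  obtain ⟨a, ha20, hap⟩ := Nat.chineseRemainder hco 3 (p - 1)
  have hacop : a.Coprime (20 * p) := by
    refine Nat.Coprime.mul_right ?_ ?_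
    · rw [Nat.coprime_iff_gcd_eq_one, Nat.gcd_comm, Nat.gcd_rec, (ha20 : a % 20 = 3 % 20)]
      norm_num
    · rw [Nat.coprime_iff_gcd_eq_one, Nat.gcd_comm, Nat.gcd_rec, (hap : a % p = (p - 1) % p),
        Nat.mod_eq_of_lt (by omega)]
      exact (Nat.coprime_self_sub_left (by omega : 1 ≤ p)).2 (Nat.coprime_one_left _)
  obtain ⟨ℓ, -, hℓ, hℓa⟩ :=
    Nat.forall_exists_prime_gt_and_modEq 5 (by positivity : 20 * p ≠ 0) hacop
  haveI : Fact ℓ.Prime := ⟨hℓ⟩
  have h20 : ℓ % 20 = 3 := (hℓa.of_mul_right p).trans ha20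
  have hℓp : ℓ % p = p - 1 := by
    rw [((hℓa.of_mul_left 20).trans hap : ℓ % p = (p - 1) % p), Nat.mod_eq_of_lt (by omega)]
  -- `η ^ ℓ = η⁻¹`
  have hη0 : η ≠ 0 := by
    rintro rfl
    rw [zero_pow hp.ne_zero] at hη
    exact zero_ne_one hη
  have hηℓ : η ^ ℓ * η = 1 := by
    rw [← pow_succ, ← Nat.div_add_mod (ℓ + 1) p, Nat.add_mod, hℓp,
      Nat.one_mod_eq_one.2 hp.ne_one, show p - 1 + 1 = p by omega, Nat.mod_self,
      add_zero, pow_mul, hη, one_pow]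
  -- the value of the cyclotomic polynomial
  have hΦ : aeval η (cyclotomic ℓ ℚ) * η = -1 := by
    have h1 : aeval η (cyclotomic ℓ ℚ) * (η - 1) = η ^ ℓ - 1 := by
      have := congrArg (aeval η) (cyclotomic_prime_mul_X_sub_one ℚ ℓ)
      simpa using this
    have h2 : (aeval η (cyclotomic ℓ ℚ) * η + 1) * (η - 1) = 0 := by
      linear_combination η * h1 + hηℓ
    rcases mul_eq_zero.1 h2 with h | h
    · exact eq_neg_of_add_eq_zero_left h
    · exact absurd (sub_eq_zero.1 h) hη1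
  obtain ⟨A, B, hc, hAB⟩ := gauss_form ℓ (by omega)
  -- `ℓ` is a sum of two squares
  have hℓsq : TwoSq (ℓ : K) := by
    obtain ⟨r, hr⟩ := neg_five_isSquare ℓ h20
    obtain ⟨x, y, k, hk1, hk5, hxy⟩ := thue ℓ r hr
    have hk : TwoSq (k : K) := by
      interval_cases k
      · exact ⟨1, 0, by norm_num⟩
      · exact ⟨1, 1, by norm_num⟩
      · refine ⟨(1 + s) / 2, (1 - s) / 2, ?_⟩
        field_simp
        push_cast
        linear_combination (-2 : K) * hs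
      · exact ⟨2, 0, by norm_num⟩
      · exact ⟨s, 0, by push_cast; linear_combination -hs⟩
    have hk0 : (k : K) ≠ 0 := Nat.cast_ne_zero.2 (by omega)
    have hkl : TwoSq ((k : K) * ℓ) := by
      refine ⟨(x : K), s * (y : K), ?_⟩
      have := congrArg (Int.cast : ℤ → K) hxy
      push_cast at this
      linear_combination -this - (y : K) ^ 2 * hs
    have := hkl.div hk hk0
    rwa [mul_div_cancel_left₀ _ hk0] at this
  -- assemble
  set a' := A.eval 0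
  set b' := B.eval 0
  set q : K := algebraMap ℚ K (a' ^ 2 + (ℓ : ℚ) * b' ^ 2) with hq
  have hq0 : q ≠ 0 := by
    rw [hq, Ne, map_eq_zero]
    exact hc
  obtain ⟨h, hh⟩ : ∃ h : K, h * h = η := ⟨η ^ ((p + 1) / 2), by
    rw [← pow_add, show (p + 1) / 2 + (p + 1) / 2 = p + 1 by omega, pow_succ, hη, one_mul]⟩
  have hval : q * aeval η (cyclotomic ℓ ℚ) = aeval η A ^ 2 + (ℓ : K) * aeval η B ^ 2 := by
    have := congrArg (aeval η) hAB
    simp only [map_mul, map_add, map_pow, aeval_C, map_natCast] at this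
    rw [hq]
    simpa using this
  set α : K := (a' : K) with hα
  set β : K := (b' : K) with hβ
  have hq' : q = α ^ 2 + (ℓ : K) * β ^ 2 := by
    rw [hq, hα, hβ]
    simp
  obtain ⟨c, d, hcd⟩ := hℓsq
  set Y := h * (aeval η A * α + (ℓ : K) * (aeval η B * β)) / q
  set Z := h * (aeval η A * β - aeval η B * α) / q
  refine ⟨Y, c * Z, d * Z, ?_⟩
  have : Y ^ 2 + (ℓ : K) * Z ^ 2 = -1 := by
    simp only [Y, Z]
    field_simp
    linear_combination
      (aeval η A ^ 2 + (ℓ : K) * aeval η B ^ 2) * (α ^ 2 + (ℓ : K) * β ^ 2) * hh -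
      η * (aeval η A ^ 2 + (ℓ : K) * aeval η B ^ 2) * hq' -
      η * q * hval + q ^ 2 * hΦ
  linear_combination this - Z ^ 2 * hcd

end Cfsg.Agent.DivRingFG
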